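import Cfsg.Agent.Lib.CosetTable.Lanes.Fi24.Sys

/-! Generated: the permutations satisfy the relations. -/

set_option maxRecDepth 100000
set_option Elab.async false

namespace Cfsg.Agent.Lib.CosetTable.Lanes.Fi24

open Cfsg.Agent.Lib.CosetTable.Lanes

theorem invol0 : agree sys [0, 0] [] [0, 1, 2, 3, 4, 5, 6, 7, 8, 9, 10, 11, 12, 13, 14, 15, 16, 17, 18] = true := by
  decide +kernel

theorem invol1 : agree sys [1, 1] [] [0, 1, 2, 3, 4, 5, 6, 7, 8, 9, 10, 11, 12, 13, 14, 15, 16, 17, 18] = true := by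
  decide +kernel

theorem invol2 : agree sys [2, 2] [] [0, 1, 2, 3, 4, 5, 6, 7, 8, 9, 10, 11, 12, 13, 14, 15, 16, 17, 18] = true := by
  decide +kernel

theorem invol3 : agree sys [3, 3] [] [0, 1, 2, 3, 4, 5, 6, 7, 8, 9, 10, 11, 12, 13, 14, 15, 16, 17, 18] = true := by
  decide +kernel

theorem invol4 : agree sys [4, 4] [] [0, 1, 2, 3, 4, 5, 6, 7, 8, 9, 10, 11, 12, 13, 14, 15, 16, 17, 18] = true := by
  decide +kernel

theorem invol5 : agree sys [5, 5] [] [0, 1, 2, 3, 4, 5, 6, 7, 8, 9, 10, 11, 12, 13, 14, 15, 16, 17, 18] = true := by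
  decide +kernel

theorem invol6 : agree sys [6, 6] [] [0, 1, 2, 3, 4, 5, 6, 7, 8, 9, 10, 11, 12, 13, 14, 15, 16, 17, 18] = true := by
  decide +kernel

theorem invol7 : agree sys [7, 7] [] [0, 1, 2, 3, 4, 5, 6, 7, 8, 9, 10, 11, 12, 13, 14, 15, 16, 17, 18] = true := by
  decide +kernel

theorem invol8 : agree sys [8, 8] [] [0, 1, 2, 3, 4, 5, 6, 7, 8, 9, 10, 11, 12, 13, 14, 15, 16, 17, 18] = true := by
  decide +kernel

theorem invol9 : agree sys [9, 9] [] [0, 1, 2, 3, 4, 5, 6, 7, 8, 9, 10, 11, 12, 13, 14, 15, 16, 17, 18] = true := by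
  decide +kernel

theorem invol10 : agree sys [10, 10] [] [0, 1, 2, 3, 4, 5, 6, 7, 8, 9, 10, 11, 12, 13, 14, 15, 16, 17, 18] = true := by
  decide +kernel

theorem invol11 : agree sys [11, 11] [] [0, 1, 2, 3, 4, 5, 6, 7, 8, 9, 10, 11, 12, 13, 14, 15, 16, 17, 18] = true := by
  decide +kernel

theorem pair0_1p0 : agree sys [0, 1, 0] [1, 0, 1] [0, 1, 2, 3, 4, 5, 6, 7, 8, 9] = true := by
  decide +kernel

theorem pair0_1p1 : agree sys [0, 1, 0] [1, 0, 1] [10, 11, 12, 13, 14, 15, 16, 17, 18] = true := by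
  decide +kernel

theorem pair0_2 : agree sys [0, 2] [2, 0] [0, 1, 2, 3, 4, 5, 6, 7, 8, 9, 10, 11, 12, 13, 14, 15, 16, 17, 18] = true := by
  decide +kernel

theorem pair0_3 : agree sys [0, 3] [3, 0] [0, 1, 2, 3, 4, 5, 6, 7, 8, 9, 10, 11, 12, 13, 14, 15, 16, 17, 18] = true := by
  decide +kernel

theorem pair0_4 : agree sys [0, 4] [4, 0] [0, 1, 2, 3, 4, 5, 6, 7, 8, 9, 10, 11, 12, 13, 14, 15, 16, 17, 18] = true := by
  decide +kernel

theorem pair0_5 : agree sys [0, 5] [5, 0] [0, 1, 2, 3, 4, 5, 6, 7, 8, 9, 10, 11, 12, 13, 14, 15, 16, 17, 18] = true := by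
  decide +kernel

theorem pair0_6 : agree sys [0, 6] [6, 0] [0, 1, 2, 3, 4, 5, 6, 7, 8, 9, 10, 11, 12, 13, 14, 15, 16, 17, 18] = true := by
  decide +kernel

theorem pair0_7 : agree sys [0, 7] [7, 0] [0, 1, 2, 3, 4, 5, 6, 7, 8, 9, 10, 11, 12, 13, 14, 15, 16, 17, 18] = true := by
  decide +kernel

theorem pair0_8 : agree sys [0, 8] [8, 0] [0, 1, 2, 3, 4, 5, 6, 7, 8, 9, 10, 11, 12, 13, 14, 15, 16, 17, 18] = true := by
  decide +kernel

theorem pair0_9 : agree sys [0, 9] [9, 0] [0, 1, 2, 3, 4, 5, 6, 7, 8, 9, 10, 11, 12, 13, 14, 15, 16, 17, 18] = true := by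
  decide +kernel

theorem pair0_10 : agree sys [0, 10] [10, 0] [0, 1, 2, 3, 4, 5, 6, 7, 8, 9, 10, 11, 12, 13, 14, 15, 16, 17, 18] = true := by
  decide +kernel

theorem pair0_11 : agree sys [0, 11] [11, 0] [0, 1, 2, 3, 4, 5, 6, 7, 8, 9, 10, 11, 12, 13, 14, 15, 16, 17, 18] = true := by
  decide +kernel

theorem pair1_2p0 : agree sys [1, 2, 1] [2, 1, 2] [0, 1, 2, 3, 4, 5, 6, 7, 8, 9] = true := by
  decide +kernel

theorem pair1_2p1 : agree sys [1, 2, 1] [2, 1, 2] [10, 11, 12, 13, 14, 15, 16, 17, 18] = true := by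
  decide +kernel

end Cfsg.Agent.Lib.CosetTable.Lanes.Fi24
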