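import Mathlib
import Cfsg.Agent.Lib.CosetTable.Lanes.Sound
import Cfsg.Agent.Lib.CosetTable.Lanes.Fi24.Check0
import Cfsg.Agent.Lib.CosetTable.Lanes.Fi24.Check1
import Cfsg.Agent.Lib.CosetTable.Lanes.Fi24.Check10
import Cfsg.Agent.Lib.CosetTable.Lanes.Fi24.Check11
import Cfsg.Agent.Lib.CosetTable.Lanes.Fi24.Check12
import Cfsg.Agent.Lib.CosetTable.Lanes.Fi24.Check2
import Cfsg.Agent.Lib.CosetTable.Lanes.Fi24.Check3
import Cfsg.Agent.Lib.CosetTable.Lanes.Fi24.Check4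
import Cfsg.Agent.Lib.CosetTable.Lanes.Fi24.Check5
import Cfsg.Agent.Lib.CosetTable.Lanes.Fi24.Check6
import Cfsg.Agent.Lib.CosetTable.Lanes.Fi24.Check7
import Cfsg.Agent.Lib.CosetTable.Lanes.Fi24.Check8
import Cfsg.Agent.Lib.CosetTable.Lanes.Fi24.Check9

/-! The relations of the twelve permutations, gathered. -/

set_option maxRecDepth 100000

namespace Cfsg.Agent.Lib.CosetTable.Lanes.Fi24

open Cfsg.Agent.Lib.CosetTable.Lanes

theorem agree_bs {u v bs bs' : List ℕ} (e : bs' = bs) (h : agree sys u v bs = true) :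
    agree sys u v bs' = true := e ▸ h

theorem agree_uv {u v u' v' bs : List ℕ} (hu : u' = u) (hv : v' = v)
    (h : agree sys u v bs = true) : agree sys u' v' bs = true := hu ▸ hv ▸ h

/-- all planes -/
def planes : List ℕ := [0, 1, 2, 3, 4, 5, 6, 7, 8, 9, 10, 11, 12, 13, 14, 15, 16, 17, 18]

theorem invol0_all : agree sys [0, 0] [] planes = true :=
  agree_bs (bs := [0, 1, 2, 3, 4, 5, 6, 7, 8, 9, 10, 11, 12, 13, 14, 15, 16, 17, 18]) (by rfl) (invol0)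

theorem invol1_all : agree sys [1, 1] [] planes = true :=
  agree_bs (bs := [0, 1, 2, 3, 4, 5, 6, 7, 8, 9, 10, 11, 12, 13, 14, 15, 16, 17, 18]) (by rfl) (invol1)

theorem invol2_all : agree sys [2, 2] [] planes = true :=
  agree_bs (bs := [0, 1, 2, 3, 4, 5, 6, 7, 8, 9, 10, 11, 12, 13, 14, 15, 16, 17, 18]) (by rfl) (invol2)

theorem invol3_all : agree sys [3, 3] [] planes = true :=
  agree_bs (bs := [0, 1, 2, 3, 4, 5, 6, 7, 8, 9, 10, 11, 12, 13, 14, 15, 16, 17, 18]) (by rfl) (invol3)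

theorem invol4_all : agree sys [4, 4] [] planes = true :=
  agree_bs (bs := [0, 1, 2, 3, 4, 5, 6, 7, 8, 9, 10, 11, 12, 13, 14, 15, 16, 17, 18]) (by rfl) (invol4)

theorem invol5_all : agree sys [5, 5] [] planes = true :=
  agree_bs (bs := [0, 1, 2, 3, 4, 5, 6, 7, 8, 9, 10, 11, 12, 13, 14, 15, 16, 17, 18]) (by rfl) (invol5)

theorem invol6_all : agree sys [6, 6] [] planes = true :=
  agree_bs (bs := [0, 1, 2, 3, 4, 5, 6, 7, 8, 9, 10, 11, 12, 13, 14, 15, 16, 17, 18]) (by rfl) (invol6)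

theorem invol7_all : agree sys [7, 7] [] planes = true :=
  agree_bs (bs := [0, 1, 2, 3, 4, 5, 6, 7, 8, 9, 10, 11, 12, 13, 14, 15, 16, 17, 18]) (by rfl) (invol7)

theorem invol8_all : agree sys [8, 8] [] planes = true :=
  agree_bs (bs := [0, 1, 2, 3, 4, 5, 6, 7, 8, 9, 10, 11, 12, 13, 14, 15, 16, 17, 18]) (by rfl) (invol8)

theorem invol9_all : agree sys [9, 9] [] planes = true :=
  agree_bs (bs := [0, 1, 2, 3, 4, 5, 6, 7, 8, 9, 10, 11, 12, 13, 14, 15, 16, 17, 18]) (by rfl) (invol9)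

theorem invol10_all : agree sys [10, 10] [] planes = true :=
  agree_bs (bs := [0, 1, 2, 3, 4, 5, 6, 7, 8, 9, 10, 11, 12, 13, 14, 15, 16, 17, 18]) (by rfl) (invol10)

theorem invol11_all : agree sys [11, 11] [] planes = true :=
  agree_bs (bs := [0, 1, 2, 3, 4, 5, 6, 7, 8, 9, 10, 11, 12, 13, 14, 15, 16, 17, 18]) (by rfl) (invol11)

theorem pair0_1_all : agree sys [0, 1, 0] [1, 0, 1] planes = true :=
  agree_bs (bs := ([0, 1, 2, 3, 4, 5, 6, 7, 8, 9] ++ [10, 11, 12, 13, 14, 15, 16, 17, 18])) (by rfl) ((agree_append (pair0_1p0) pair0_1p1))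

theorem pair0_2_all : agree sys [0, 2] [2, 0] planes = true :=
  agree_bs (bs := [0, 1, 2, 3, 4, 5, 6, 7, 8, 9, 10, 11, 12, 13, 14, 15, 16, 17, 18]) (by rfl) (pair0_2)

theorem pair0_3_all : agree sys [0, 3] [3, 0] planes = true :=
  agree_bs (bs := [0, 1, 2, 3, 4, 5, 6, 7, 8, 9, 10, 11, 12, 13, 14, 15, 16, 17, 18]) (by rfl) (pair0_3)

theorem pair0_4_all : agree sys [0, 4] [4, 0] planes = true :=
  agree_bs (bs := [0, 1, 2, 3, 4, 5, 6, 7, 8, 9, 10, 11, 12, 13, 14, 15, 16, 17, 18]) (by rfl) (pair0_4)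

theorem pair0_5_all : agree sys [0, 5] [5, 0] planes = true :=
  agree_bs (bs := [0, 1, 2, 3, 4, 5, 6, 7, 8, 9, 10, 11, 12, 13, 14, 15, 16, 17, 18]) (by rfl) (pair0_5)

theorem pair0_6_all : agree sys [0, 6] [6, 0] planes = true :=
  agree_bs (bs := [0, 1, 2, 3, 4, 5, 6, 7, 8, 9, 10, 11, 12, 13, 14, 15, 16, 17, 18]) (by rfl) (pair0_6)

theorem pair0_7_all : agree sys [0, 7] [7, 0] planes = true :=
  agree_bs (bs := [0, 1, 2, 3, 4, 5, 6, 7, 8, 9, 10, 11, 12, 13, 14, 15, 16, 17, 18]) (by rfl) (pair0_7)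

theorem pair0_8_all : agree sys [0, 8] [8, 0] planes = true :=
  agree_bs (bs := [0, 1, 2, 3, 4, 5, 6, 7, 8, 9, 10, 11, 12, 13, 14, 15, 16, 17, 18]) (by rfl) (pair0_8)

theorem pair0_9_all : agree sys [0, 9] [9, 0] planes = true :=
  agree_bs (bs := [0, 1, 2, 3, 4, 5, 6, 7, 8, 9, 10, 11, 12, 13, 14, 15, 16, 17, 18]) (by rfl) (pair0_9)

theorem pair0_10_all : agree sys [0, 10] [10, 0] planes = true :=
  agree_bs (bs := [0, 1, 2, 3, 4, 5, 6, 7, 8, 9, 10, 11, 12, 13, 14, 15, 16, 17, 18]) (by rfl) (pair0_10)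

theorem pair0_11_all : agree sys [0, 11] [11, 0] planes = true :=
  agree_bs (bs := [0, 1, 2, 3, 4, 5, 6, 7, 8, 9, 10, 11, 12, 13, 14, 15, 16, 17, 18]) (by rfl) (pair0_11)

theorem pair1_2_all : agree sys [1, 2, 1] [2, 1, 2] planes = true :=
  agree_bs (bs := ([0, 1, 2, 3, 4, 5, 6, 7, 8, 9] ++ [10, 11, 12, 13, 14, 15, 16, 17, 18])) (by rfl) ((agree_append (pair1_2p0) pair1_2p1))

theorem pair1_3_all : agree sys [1, 3] [3, 1] planes = true :=
  agree_bs (bs := [0, 1, 2, 3, 4, 5, 6, 7, 8, 9, 10, 11, 12, 13, 14, 15, 16, 17, 18]) (by rfl) (pair1_3)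

theorem pair1_4_all : agree sys [1, 4] [4, 1] planes = true :=
  agree_bs (bs := [0, 1, 2, 3, 4, 5, 6, 7, 8, 9, 10, 11, 12, 13, 14, 15, 16, 17, 18]) (by rfl) (pair1_4)

theorem pair1_5_all : agree sys [1, 5] [5, 1] planes = true :=
  agree_bs (bs := [0, 1, 2, 3, 4, 5, 6, 7, 8, 9, 10, 11, 12, 13, 14, 15, 16, 17, 18]) (by rfl) (pair1_5)

theorem pair1_6_all : agree sys [1, 6] [6, 1] planes = true :=
  agree_bs (bs := [0, 1, 2, 3, 4, 5, 6, 7, 8, 9, 10, 11, 12, 13, 14, 15, 16, 17, 18]) (by rfl) (pair1_6)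

theorem pair1_7_all : agree sys [1, 7] [7, 1] planes = true :=
  agree_bs (bs := [0, 1, 2, 3, 4, 5, 6, 7, 8, 9, 10, 11, 12, 13, 14, 15, 16, 17, 18]) (by rfl) (pair1_7)

theorem pair1_8_all : agree sys [1, 8] [8, 1] planes = true :=
  agree_bs (bs := [0, 1, 2, 3, 4, 5, 6, 7, 8, 9, 10, 11, 12, 13, 14, 15, 16, 17, 18]) (by rfl) (pair1_8)

theorem pair1_9_all : agree sys [1, 9] [9, 1] planes = true :=
  agree_bs (bs := [0, 1, 2, 3, 4, 5, 6, 7, 8, 9, 10, 11, 12, 13, 14, 15, 16, 17, 18]) (by rfl) (pair1_9)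

theorem pair1_10_all : agree sys [1, 10] [10, 1] planes = true :=
  agree_bs (bs := [0, 1, 2, 3, 4, 5, 6, 7, 8, 9, 10, 11, 12, 13, 14, 15, 16, 17, 18]) (by rfl) (pair1_10)

theorem pair1_11_all : agree sys [1, 11] [11, 1] planes = true :=
  agree_bs (bs := [0, 1, 2, 3, 4, 5, 6, 7, 8, 9, 10, 11, 12, 13, 14, 15, 16, 17, 18]) (by rfl) (pair1_11)

theorem pair2_3_all : agree sys [2, 3, 2] [3, 2, 3] planes = true :=
  agree_bs (bs := ([0, 1, 2, 3, 4, 5, 6, 7, 8, 9] ++ [10, 11, 12, 13, 14, 15, 16, 17, 18])) (by rfl) ((agree_append (pair2_3p0) pair2_3p1))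

theorem spider_all : agree sys [5, 4, 3, 2, 1, 0, 5, 6, 7, 8, 9, 5, 10, 11, 5, 4, 3, 2, 1, 0, 5, 6, 7, 8, 9, 5, 10, 11, 5, 4, 3, 2, 1, 0, 5, 6, 7, 8, 9, 5, 10, 11, 5, 4, 3, 2, 1, 0, 5, 6, 7, 8, 9, 5, 10, 11, 5, 4, 3, 2, 1, 0, 5, 6, 7, 8, 9, 5, 10, 11, 5, 4, 3, 2, 1, 0, 5, 6, 7, 8, 9, 5, 10, 11, 5, 4, 3, 2, 1, 0, 5, 6, 7, 8, 9, 5, 10, 11, 5, 4, 3, 2, 1, 0, 5, 6, 7, 8, 9, 5, 10, 11, 5, 4, 3, 2, 1, 0, 5, 6, 7, 8, 9, 5, 10, 11, 5, 4, 3, 2, 1, 0, 5, 6, 7, 8, 9, 5, 10, 11, 5, 4, 3, 2, 1, 0, 5, 6, 7, 8, 9, 5, 10, 11, 5, 4, 3, 2, 1, 0, 5, 6, 7, 8, 9, 5, 10, 11, 5, 4, 3, 2, 1, 0, 5, 6, 7, 8, 9, 5, 10, 11, 5, 4, 3, 2, 1, 0, 5, 6, 7, 8, 9, 5, 10, 11, 5, 4, 3, 2, 1, 0, 5, 6, 7, 8, 9, 5, 10, 11, 5, 4, 3, 2, 1, 0, 5, 6, 7, 8, 9, 5, 10, 11, 5, 4, 3, 2, 1, 0, 5, 6, 7, 8, 9, 5, 10, 11] [] planes = true :=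
  agree_bs (bs := (((((((((((((((((([0] ++ [1]) ++ [2]) ++ [3]) ++ [4]) ++ [5]) ++ [6]) ++ [7]) ++ [8]) ++ [9]) ++ [10]) ++ [11]) ++ [12]) ++ [13]) ++ [14]) ++ [15]) ++ [16]) ++ [17]) ++ [18])) (by rfl) ((agree_append ((agree_append ((agree_append ((agree_append ((agree_append ((agree_append ((agree_append ((agree_append ((agree_append ((agree_append ((agree_append ((agree_append ((agree_append ((agree_append ((agree_append ((agree_append ((agree_append ((agree_append (spiderp0) spiderp1)) spiderp2)) spiderp3)) spiderp4)) spiderp5)) spiderp6)) spiderp7)) spiderp8)) spiderp9)) spiderp10)) spiderp11)) spiderp12)) spiderp13)) spiderp14)) spiderp15)) spiderp16)) spiderp17)) spiderp18))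

theorem pair2_4_all : agree sys [2, 4] [4, 2] planes = true :=
  agree_bs (bs := [0, 1, 2, 3, 4, 5, 6, 7, 8, 9, 10, 11, 12, 13, 14, 15, 16, 17, 18]) (by rfl) (pair2_4)

theorem pair2_5_all : agree sys [2, 5] [5, 2] planes = true :=
  agree_bs (bs := [0, 1, 2, 3, 4, 5, 6, 7, 8, 9, 10, 11, 12, 13, 14, 15, 16, 17, 18]) (by rfl) (pair2_5)

theorem pair2_6_all : agree sys [2, 6] [6, 2] planes = true :=
  agree_bs (bs := [0, 1, 2, 3, 4, 5, 6, 7, 8, 9, 10, 11, 12, 13, 14, 15, 16, 17, 18]) (by rfl) (pair2_6)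

theorem pair2_7_all : agree sys [2, 7] [7, 2] planes = true :=
  agree_bs (bs := [0, 1, 2, 3, 4, 5, 6, 7, 8, 9, 10, 11, 12, 13, 14, 15, 16, 17, 18]) (by rfl) (pair2_7)

theorem pair2_8_all : agree sys [2, 8] [8, 2] planes = true :=
  agree_bs (bs := [0, 1, 2, 3, 4, 5, 6, 7, 8, 9, 10, 11, 12, 13, 14, 15, 16, 17, 18]) (by rfl) (pair2_8)

theorem pair2_9_all : agree sys [2, 9] [9, 2] planes = true :=
  agree_bs (bs := [0, 1, 2, 3, 4, 5, 6, 7, 8, 9, 10, 11, 12, 13, 14, 15, 16, 17, 18]) (by rfl) (pair2_9)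

theorem pair2_10_all : agree sys [2, 10] [10, 2] planes = true :=
  agree_bs (bs := [0, 1, 2, 3, 4, 5, 6, 7, 8, 9, 10, 11, 12, 13, 14, 15, 16, 17, 18]) (by rfl) (pair2_10)

theorem pair2_11_all : agree sys [2, 11] [11, 2] planes = true :=
  agree_bs (bs := [0, 1, 2, 3, 4, 5, 6, 7, 8, 9, 10, 11, 12, 13, 14, 15, 16, 17, 18]) (by rfl) (pair2_11)

theorem pair3_4_all : agree sys [3, 4, 3] [4, 3, 4] planes = true :=
  agree_bs (bs := ([0, 1, 2, 3, 4, 5, 6, 7, 8, 9] ++ [10, 11, 12, 13, 14, 15, 16, 17, 18])) (by rfl) ((agree_append (pair3_4p0) pair3_4p1))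

theorem pair3_5_all : agree sys [3, 5] [5, 3] planes = true :=
  agree_bs (bs := [0, 1, 2, 3, 4, 5, 6, 7, 8, 9, 10, 11, 12, 13, 14, 15, 16, 17, 18]) (by rfl) (pair3_5)

theorem pair3_6_all : agree sys [3, 6] [6, 3] planes = true :=
  agree_bs (bs := [0, 1, 2, 3, 4, 5, 6, 7, 8, 9, 10, 11, 12, 13, 14, 15, 16, 17, 18]) (by rfl) (pair3_6)

theorem pair3_7_all : agree sys [3, 7] [7, 3] planes = true :=
  agree_bs (bs := [0, 1, 2, 3, 4, 5, 6, 7, 8, 9, 10, 11, 12, 13, 14, 15, 16, 17, 18]) (by rfl) (pair3_7)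

theorem pair3_8_all : agree sys [3, 8] [8, 3] planes = true :=
  agree_bs (bs := [0, 1, 2, 3, 4, 5, 6, 7, 8, 9, 10, 11, 12, 13, 14, 15, 16, 17, 18]) (by rfl) (pair3_8)

theorem pair3_9_all : agree sys [3, 9] [9, 3] planes = true :=
  agree_bs (bs := [0, 1, 2, 3, 4, 5, 6, 7, 8, 9, 10, 11, 12, 13, 14, 15, 16, 17, 18]) (by rfl) (pair3_9)

theorem pair3_10_all : agree sys [3, 10] [10, 3] planes = true :=
  agree_bs (bs := [0, 1, 2, 3, 4, 5, 6, 7, 8, 9, 10, 11, 12, 13, 14, 15, 16, 17, 18]) (by rfl) (pair3_10)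

theorem pair3_11_all : agree sys [3, 11] [11, 3] planes = true :=
  agree_bs (bs := [0, 1, 2, 3, 4, 5, 6, 7, 8, 9, 10, 11, 12, 13, 14, 15, 16, 17, 18]) (by rfl) (pair3_11)

theorem pair4_5_all : agree sys [4, 5, 4] [5, 4, 5] planes = true :=
  agree_bs (bs := ([0, 1, 2, 3, 4, 5, 6, 7, 8, 9] ++ [10, 11, 12, 13, 14, 15, 16, 17, 18])) (by rfl) ((agree_append (pair4_5p0) pair4_5p1))

theorem pair4_6_all : agree sys [4, 6] [6, 4] planes = true :=
  agree_bs (bs := [0, 1, 2, 3, 4, 5, 6, 7, 8, 9, 10, 11, 12, 13, 14, 15, 16, 17, 18]) (by rfl) (pair4_6)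

theorem pair4_7_all : agree sys [4, 7] [7, 4] planes = true :=
  agree_bs (bs := [0, 1, 2, 3, 4, 5, 6, 7, 8, 9, 10, 11, 12, 13, 14, 15, 16, 17, 18]) (by rfl) (pair4_7)

theorem pair4_8_all : agree sys [4, 8] [8, 4] planes = true :=
  agree_bs (bs := [0, 1, 2, 3, 4, 5, 6, 7, 8, 9, 10, 11, 12, 13, 14, 15, 16, 17, 18]) (by rfl) (pair4_8)

theorem pair4_9_all : agree sys [4, 9] [9, 4] planes = true :=
  agree_bs (bs := [0, 1, 2, 3, 4, 5, 6, 7, 8, 9, 10, 11, 12, 13, 14, 15, 16, 17, 18]) (by rfl) (pair4_9)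

theorem pair4_10_all : agree sys [4, 10] [10, 4] planes = true :=
  agree_bs (bs := [0, 1, 2, 3, 4, 5, 6, 7, 8, 9, 10, 11, 12, 13, 14, 15, 16, 17, 18]) (by rfl) (pair4_10)

theorem pair4_11_all : agree sys [4, 11] [11, 4] planes = true :=
  agree_bs (bs := [0, 1, 2, 3, 4, 5, 6, 7, 8, 9, 10, 11, 12, 13, 14, 15, 16, 17, 18]) (by rfl) (pair4_11)

theorem pair5_6_all : agree sys [5, 6, 5] [6, 5, 6] planes = true :=
  agree_bs (bs := ([0, 1, 2, 3, 4, 5, 6, 7, 8, 9] ++ [10, 11, 12, 13, 14, 15, 16, 17, 18])) (by rfl) ((agree_append (pair5_6p0) pair5_6p1))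

theorem pair5_7_all : agree sys [5, 7] [7, 5] planes = true :=
  agree_bs (bs := [0, 1, 2, 3, 4, 5, 6, 7, 8, 9, 10, 11, 12, 13, 14, 15, 16, 17, 18]) (by rfl) (pair5_7)

theorem pair5_8_all : agree sys [5, 8] [8, 5] planes = true :=
  agree_bs (bs := [0, 1, 2, 3, 4, 5, 6, 7, 8, 9, 10, 11, 12, 13, 14, 15, 16, 17, 18]) (by rfl) (pair5_8)

theorem pair5_9_all : agree sys [5, 9] [9, 5] planes = true :=
  agree_bs (bs := [0, 1, 2, 3, 4, 5, 6, 7, 8, 9, 10, 11, 12, 13, 14, 15, 16, 17, 18]) (by rfl) (pair5_9)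

theorem pair5_10_all : agree sys [5, 10, 5] [10, 5, 10] planes = true :=
  agree_bs (bs := ([0, 1, 2, 3, 4, 5, 6, 7, 8, 9] ++ [10, 11, 12, 13, 14, 15, 16, 17, 18])) (by rfl) ((agree_append (pair5_10p0) pair5_10p1))

theorem pair5_11_all : agree sys [5, 11] [11, 5] planes = true :=
  agree_bs (bs := [0, 1, 2, 3, 4, 5, 6, 7, 8, 9, 10, 11, 12, 13, 14, 15, 16, 17, 18]) (by rfl) (pair5_11)

theorem pair6_7_all : agree sys [6, 7, 6] [7, 6, 7] planes = true :=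
  agree_bs (bs := ([0, 1, 2, 3, 4, 5, 6, 7, 8, 9] ++ [10, 11, 12, 13, 14, 15, 16, 17, 18])) (by rfl) ((agree_append (pair6_7p0) pair6_7p1))

theorem pair6_8_all : agree sys [6, 8] [8, 6] planes = true :=
  agree_bs (bs := [0, 1, 2, 3, 4, 5, 6, 7, 8, 9, 10, 11, 12, 13, 14, 15, 16, 17, 18]) (by rfl) (pair6_8)

theorem pair6_9_all : agree sys [6, 9] [9, 6] planes = true :=
  agree_bs (bs := [0, 1, 2, 3, 4, 5, 6, 7, 8, 9, 10, 11, 12, 13, 14, 15, 16, 17, 18]) (by rfl) (pair6_9)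

theorem pair6_10_all : agree sys [6, 10] [10, 6] planes = true :=
  agree_bs (bs := [0, 1, 2, 3, 4, 5, 6, 7, 8, 9, 10, 11, 12, 13, 14, 15, 16, 17, 18]) (by rfl) (pair6_10)

theorem pair6_11_all : agree sys [6, 11] [11, 6] planes = true :=
  agree_bs (bs := [0, 1, 2, 3, 4, 5, 6, 7, 8, 9, 10, 11, 12, 13, 14, 15, 16, 17, 18]) (by rfl) (pair6_11)

theorem pair7_8_all : agree sys [7, 8, 7] [8, 7, 8] planes = true :=
  agree_bs (bs := ([0, 1, 2, 3, 4, 5, 6, 7, 8, 9] ++ [10, 11, 12, 13, 14, 15, 16, 17, 18])) (by rfl) ((agree_append (pair7_8p0) pair7_8p1))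

theorem pair7_9_all : agree sys [7, 9] [9, 7] planes = true :=
  agree_bs (bs := [0, 1, 2, 3, 4, 5, 6, 7, 8, 9, 10, 11, 12, 13, 14, 15, 16, 17, 18]) (by rfl) (pair7_9)

theorem pair7_10_all : agree sys [7, 10] [10, 7] planes = true :=
  agree_bs (bs := [0, 1, 2, 3, 4, 5, 6, 7, 8, 9, 10, 11, 12, 13, 14, 15, 16, 17, 18]) (by rfl) (pair7_10)

theorem pair7_11_all : agree sys [7, 11] [11, 7] planes = true :=
  agree_bs (bs := [0, 1, 2, 3, 4, 5, 6, 7, 8, 9, 10, 11, 12, 13, 14, 15, 16, 17, 18]) (by rfl) (pair7_11)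

theorem pair8_9_all : agree sys [8, 9, 8] [9, 8, 9] planes = true :=
  agree_bs (bs := ([0, 1, 2, 3, 4, 5, 6, 7, 8, 9] ++ [10, 11, 12, 13, 14, 15, 16, 17, 18])) (by rfl) ((agree_append (pair8_9p0) pair8_9p1))

theorem pair8_10_all : agree sys [8, 10] [10, 8] planes = true :=
  agree_bs (bs := [0, 1, 2, 3, 4, 5, 6, 7, 8, 9, 10, 11, 12, 13, 14, 15, 16, 17, 18]) (by rfl) (pair8_10)

theorem pair8_11_all : agree sys [8, 11] [11, 8] planes = true :=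
  agree_bs (bs := [0, 1, 2, 3, 4, 5, 6, 7, 8, 9, 10, 11, 12, 13, 14, 15, 16, 17, 18]) (by rfl) (pair8_11)

theorem pair9_10_all : agree sys [9, 10] [10, 9] planes = true :=
  agree_bs (bs := [0, 1, 2, 3, 4, 5, 6, 7, 8, 9, 10, 11, 12, 13, 14, 15, 16, 17, 18]) (by rfl) (pair9_10)

theorem pair9_11_all : agree sys [9, 11] [11, 9] planes = true :=
  agree_bs (bs := [0, 1, 2, 3, 4, 5, 6, 7, 8, 9, 10, 11, 12, 13, 14, 15, 16, 17, 18]) (by rfl) (pair9_11)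

theorem pair10_11_all : agree sys [10, 11, 10] [11, 10, 11] planes = true :=
  agree_bs (bs := ([0, 1, 2, 3, 4, 5, 6, 7, 8, 9] ++ [10, 11, 12, 13, 14, 15, 16, 17, 18])) (by rfl) ((agree_append (pair10_11p0) pair10_11p1))

theorem e7_all : agree sys [0] [2, 3, 4, 5, 6, 7, 10, 2, 3, 4, 5, 6, 7, 10, 2, 3, 4, 5, 6, 7, 10, 2, 3, 4, 5, 6, 7, 10, 2, 3, 4, 5, 6, 7, 10, 2, 3, 4, 5, 6, 7, 10, 2, 3, 4, 5, 6, 7, 10, 2, 3, 4, 5, 6, 7, 10, 2, 3, 4, 5, 6, 7, 10] planes = true :=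
  agree_bs (bs := (((([0, 1, 2, 3] ++ [4, 5, 6, 7]) ++ [8, 9, 10, 11]) ++ [12, 13, 14, 15]) ++ [16, 17, 18])) (by rfl) ((agree_append ((agree_append ((agree_append ((agree_append (e7p0) e7p1)) e7p2)) e7p3)) e7p4))

/-- the edges of the graph -/
def edgesI : List (ℕ × ℕ) := [(0, 1), (1, 2), (2, 3), (3, 4), (4, 5), (5, 6), (5, 10), (6, 7), (7, 8), (8, 9), (10, 11)]

/-- neighbours in the graph -/
def adjI (a b : ℕ) : Bool := edgesI.contains (a, b) || edgesI.contains (b, a)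

/-- one side of the relation of `a` and `b` -/
def coxL (a b : ℕ) : List ℕ := if adjI a b then [a, b, a] else [a, b]

/-- the other side -/
def coxR (a b : ℕ) : List ℕ := if adjI a b then [b, a, b] else [b, a]

theorem cox_all : ∀ p ∈ [(0, 1), (0, 2), (0, 3), (0, 4), (0, 5), (0, 6), (0, 7), (0, 8), (0, 9), (0, 10), (0, 11), (1, 2), (1, 3), (1, 4), (1, 5), (1, 6), (1, 7), (1, 8), (1, 9), (1, 10), (1, 11), (2, 3), (2, 4), (2, 5), (2, 6), (2, 7), (2, 8), (2, 9), (2, 10), (2, 11), (3, 4), (3, 5), (3, 6), (3, 7), (3, 8), (3, 9), (3, 10), (3, 11), (4, 5), (4, 6), (4, 7), (4, 8), (4, 9), (4, 10), (4, 11), (5, 6), (5, 7), (5, 8), (5, 9), (5, 10), (5, 11), (6, 7), (6, 8), (6, 9), (6, 10), (6, 11), (7, 8), (7, 9), (7, 10), (7, 11), (8, 9), (8, 10), (8, 11), (9, 10), (9, 11), (10, 11)], agree sys (coxL p.1 p.2) (coxR p.1 p.2) planes = true := by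
  simp only [List.forall_mem_cons]
  exact ⟨agree_uv (by rfl) (by rfl) pair0_1_all, agree_uv (by rfl) (by rfl) pair0_2_all, agree_uv (by rfl) (by rfl) pair0_3_all, agree_uv (by rfl) (by rfl) pair0_4_all, agree_uv (by rfl) (by rfl) pair0_5_all, agree_uv (by rfl) (by rfl) pair0_6_all, agree_uv (by rfl) (by rfl) pair0_7_all, agree_uv (by rfl) (by rfl) pair0_8_all, agree_uv (by rfl) (by rfl) pair0_9_all, agree_uv (by rfl) (by rfl) pair0_10_all, agree_uv (by rfl) (by rfl) pair0_11_all, agree_uv (by rfl) (by rfl) pair1_2_all, agree_uv (by rfl) (by rfl) pair1_3_all, agree_uv (by rfl) (by rfl) pair1_4_all, agree_uv (by rfl) (by rfl) pair1_5_all, agree_uv (by rfl) (by rfl) pair1_6_all, agree_uv (by rfl) (by rfl) pair1_7_all, agree_uv (by rfl) (by rfl) pair1_8_all, agree_uv (by rfl) (by rfl) pair1_9_all, agree_uv (by rfl) (by rfl) pair1_10_all, agree_uv (by rfl) (by rfl) pair1_11_all, agree_uv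 (by rfl) (by rfl) pair2_3_all, agree_uv (by rfl) (by rfl) pair2_4_all, agree_uv (by rfl) (by rfl) pair2_5_all, agree_uv (by rfl) (by rfl) pair2_6_all, agree_uv (by rfl) (by rfl) pair2_7_all, agree_uv (by rfl) (by rfl) pair2_8_all, agree_uv (by rfl) (by rfl) pair2_9_all, agree_uv (by rfl) (by rfl) pair2_10_all, agree_uv (by rfl) (by rfl) pair2_11_all, agree_uv (by rfl) (by rfl) pair3_4_all, agree_uv (by rfl) (by rfl) pair3_5_all, agree_uv (by rfl) (by rfl) pair3_6_all, agree_uv (by rfl) (by rfl) pair3_7_all, agree_uv (by rfl) (by rfl) pair3_8_all, agree_uv (by rfl) (by rfl) pair3_9_all, agree_uv (by rfl) (by rfl) pair3_10_all, agree_uv (by rfl) (by rfl) pair3_11_all, agree_uv (by rfl) (by rfl) pair4_5_all, agree_uv (by rfl) (by rfl) pair4_6_all, agree_uv (by rfl) (by rfl) pair4_7_all, agree_uv (by rfl) (by rfl) pair4_8_all, agree_uv (by rfl) (by rfl) pair4_9_all, agree_uv (by rfl) (by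 rfl) pair4_10_all, agree_uv (by rfl) (by rfl) pair4_11_all, agree_uv (by rfl) (by rfl) pair5_6_all, agree_uv (by rfl) (by rfl) pair5_7_all, agree_uv (by rfl) (by rfl) pair5_8_all, agree_uv (by rfl) (by rfl) pair5_9_all, agree_uv (by rfl) (by rfl) pair5_10_all, agree_uv (by rfl) (by rfl) pair5_11_all, agree_uv (by rfl) (by rfl) pair6_7_all, agree_uv (by rfl) (by rfl) pair6_8_all, agree_uv (by rfl) (by rfl) pair6_9_all, agree_uv (by rfl) (by rfl) pair6_10_all, agree_uv (by rfl) (by rfl) pair6_11_all, agree_uv (by rfl) (by rfl) pair7_8_all, agree_uv (by rfl) (by rfl) pair7_9_all, agree_uv (by rfl) (by rfl) pair7_10_all, agree_uv (by rfl) (by rfl) pair7_11_all, agree_uv (by rfl) (by rfl) pair8_9_all, agree_uv (by rfl) (by rfl) pair8_10_all, agree_uv (by rfl) (by rfl) pair8_11_all, agree_uv (by rfl) (by rfl) pair9_10_all, agree_uv (by rfl) (by rfl) pair9_11_all, agree_uv (by rfl) (by rfl)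 pair10_11_all, List.forall_mem_nil _⟩

theorem invol_all : ∀ g ∈ List.range 12, agree sys [g, g] [] planes = true := by
  rw [show List.range 12 = [0, 1, 2, 3, 4, 5, 6, 7, 8, 9, 10, 11] from rfl]
  simp only [List.forall_mem_cons]
  exact ⟨invol0_all, invol1_all, invol2_all, invol3_all, invol4_all, invol5_all, invol6_all, invol7_all, invol8_all, invol9_all, invol10_all, invol11_all, List.forall_mem_nil _⟩

end Cfsg.Agent.Lib.CosetTable.Lanes.Fi24
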