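import Mathlib
import Cfsg.Prelude.Def_Spor_Fi24
import Cfsg.Agent.Lib.CosetTable.Lanes.Closure
import Cfsg.Agent.Lib.CosetTable.Lanes.Trace
import Cfsg.Agent.Lib.CosetTable.Lanes.Fi24.Relations

/-!
The presented Fi24 acts on the 306936 lanes.
-/

set_option maxRecDepth 100000

namespace Cfsg.Agent.Lib.CosetTable.Lanes.Fi24

open Cfsg.Agent.Lib.CosetTable.Lanes

/-- the numbering of the generators -/
def genOf (n : ℕ) : Cfsg.Spor.Fi24.Gen :=
  [Cfsg.Spor.Fi24.Gen.l, .k, .a, .b, .c, .d, .e, .f, .g, .j, .h, .i].getD n .l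

/-- the number of a generator -/
def idx : Cfsg.Spor.Fi24.Gen → ℕ
  | .l => 0 | .k => 1 | .a => 2 | .b => 3 | .c => 4 | .d => 5
  | .e => 6 | .f => 7 | .g => 8 | .j => 9 | .h => 10 | .i => 11

theorem idx_lt (x : Cfsg.Spor.Fi24.Gen) : idx x < 12 := by cases x <;> decide

theorem genOf_idx (x : Cfsg.Spor.Fi24.Gen) : genOf (idx x) = x := by cases x <;> rfl

theorem mem_nodes (x : Cfsg.Spor.Fi24.Gen) : x ∈ Cfsg.Spor.coxNodes Cfsg.Spor.Fi24.edges := by
  cases x <;> decide

/-- the generators of the group -/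
noncomputable def gn (n : ℕ) : Cfsg.Spor.Fi24 := PresentedGroup.of (genOf n)

theorem perm_ok : ∀ g, permOK sys.size (sys.perm g) := by
  intro g n hn
  have h := nets_ok
  simp only [Sys.netsOK, both_eq, Bool.and_eq_true, allB_iff] at h
  obtain ⟨-, -, hp, -⟩ := h
  have hm : sys.perm g = [] ∨ sys.perm g ∈ sys.perms := by
    have key : ∀ (l : List (List Net)) (i : ℕ),
        (List.rec (motive := fun _ => ℕ → List Net) (fun _ => [])
          (fun x _ ih i => Nat.rec (motive := fun _ => List Net) x (fun m _ => ih m) i) l i) = [] ∨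
        (List.rec (motive := fun _ => ℕ → List Net) (fun _ => [])
          (fun x _ ih i => Nat.rec (motive := fun _ => List Net) x (fun m _ => ih m) i) l i) ∈ l := by
      intro l
      induction l with
      | nil => intro i; exact Or.inl rfl
      | cons x t ih =>
        intro i
        cases i with
        | zero => exact Or.inr List.mem_cons_self
        | succ m => exact (ih m).imp id (List.mem_cons_of_mem _)
    exact key sys.perms g
  rcases hm with e | e
  · rw [e] at hn; exact (List.not_mem_nil hn).elim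
  · exact hp _ e n hn

theorem size_eq : sys.size = 306936 := rfl

theorem agree_pos {u v : List ℕ} (h : agree sys u v planes = true) :
    ∀ i, i < sys.size → permPos (sys.nets u) i = permPos (sys.nets v) i :=
  Sys.eq_of_agree perm_ok (by rw [size_eq]; norm_num) h
    (fun b hb => by
      have : ∀ b < 19, b ∈ planes := by decide
      exact this b hb)

theorem nets_pos : ∀ (g : ℕ) (w : List ℕ) (i : ℕ),
    permPos (sys.nets (g :: w)) i = sys.pos g (permPos (sys.nets w) i) := by
  intro g w i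
  rw [sys.nets_cons, permPos_append]
  rfl

theorem pos_invol : ∀ g i, i < sys.size → sys.pos g (sys.pos g i) = i := by
  intro g i hi
  by_cases hg : g < 12
  · have h := agree_pos (invol_all g (List.mem_range.2 hg)) i hi
    rwa [nets_pos, nets_pos] at h
  · have e : sys.perm g = [] := by
      obtain ⟨m, rfl⟩ : ∃ m, g = m + 12 := ⟨g - 12, by omega⟩
      rfl
    simp only [Sys.pos, e]
    rfl

theorem undo_pos : ∀ i, i < sys.size →
    netPos sys.fwd (netPos sys.bwd i) = i ∧ netPos sys.bwd (netPos sys.fwd i) = i := by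
  intro i hi
  have h := undo
  rw [allB_iff] at h
  have hn := nets_ok
  simp only [Sys.netsOK, both_eq, Bool.and_eq_true] at hn
  have ok1 : permOK sys.size [sys.fwd, sys.bwd] := by
    intro n hm
    simp only [List.mem_cons, List.not_mem_nil, or_false] at hm
    rcases hm with rfl | rfl
    exacts [hn.1, hn.2.1]
  have ok2 : permOK sys.size [sys.bwd, sys.fwd] := by
    intro n hm
    simp only [List.mem_cons, List.not_mem_nil, or_false] at hm
    rcases hm with rfl | rfl
    exacts [hn.2.1, hn.1]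
  have ok0 : permOK sys.size [] := fun n hm => (List.not_mem_nil hm).elim
  have hb : ∀ b, b < 19 → sameOn [sys.fwd, sys.bwd] [] b = true ∧
      sameOn [sys.bwd, sys.fwd] [] b = true := by
    intro b hb
    have hm : b ∈ planes := by
      have : ∀ b < 19, b ∈ planes := by decide
      exact this b hb
    have := h b hm
    simpa only [Sys.undoOn, both_eq, Bool.and_eq_true] using this
  exact ⟨perm_eq_of_sameOn ok1 ok0 (by rw [size_eq]; norm_num) (fun b hb' => (hb b hb').1) i hi,
    perm_eq_of_sameOn ok2 ok0 (by rw [size_eq]; norm_num) (fun b hb' => (hb b hb').2) i hi⟩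

theorem valid : sys.Valid where
  perm := perm_ok
  mid g := by
    have h := nets_ok
    simp only [Sys.netsOK, both_eq, Bool.and_eq_true, allB_iff] at h
    obtain ⟨-, -, -, hm⟩ := h
    have key : ∀ (l : List Net) (i : ℕ), (∀ n ∈ l, netOK sys.size n = true) →
        netOK sys.size (List.rec (motive := fun _ => ℕ → Net) (fun _ => [])
          (fun x _ ih i => Nat.rec (motive := fun _ => Net) x (fun m _ => ih m) i) l i) = true := by
      intro l
      induction l with
      | nil => intros; rfl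
      | cons x t ih =>
        intro i hl
        cases i with
        | zero => exact hl _ List.mem_cons_self
        | succ m => exact ih m (fun n hn => hl n (List.mem_cons_of_mem _ hn))
    exact key sys.inner g hm
  fwd := by
    have h := nets_ok
    simp only [Sys.netsOK, both_eq, Bool.and_eq_true] at h
    exact h.1
  bwd := by
    have h := nets_ok
    simp only [Sys.netsOK, both_eq, Bool.and_eq_true] at h
    exact h.2.1
  invol := pos_invol
  back i hi := (undo_pos i hi).1
  forth i hi := (undo_pos i hi).2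

/-- the permutation of generator `g` -/
noncomputable def perm (g : ℕ) : Equiv.Perm (Fin sys.size) where
  toFun i := ⟨sys.pos g i, Sys.pos_lt valid g i.2⟩
  invFun i := ⟨sys.pos g i, Sys.pos_lt valid g i.2⟩
  left_inv i := Fin.ext (pos_invol g i i.2)
  right_inv i := Fin.ext (pos_invol g i i.2)

theorem perm_val (g : ℕ) (i : Fin sys.size) : (perm g i).val = sys.pos g i.val := rfl

theorem perm_pw_apply : ∀ (w : List ℕ) (i : Fin sys.size),
    ((pw perm w) i).val = permPos (sys.nets w) i.val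
  | [], i => rfl
  | g :: w, i => by
    rw [pw_cons, Equiv.Perm.mul_apply, nets_pos, ← perm_pw_apply w i]
    rfl

theorem pw_eq_of_agree {u v : List ℕ} (h : agree sys u v planes = true) :
    pw perm u = pw perm v := by
  ext i
  rw [perm_pw_apply, perm_pw_apply, agree_pos h i i.2]

theorem perm_mul_self (g : ℕ) : perm g * perm g = 1 :=
  Equiv.ext fun i => Fin.ext (pos_invol g i i.2)

/-- the pairs of generators -/
def pairsI : List (ℕ × ℕ) :=
  ([(0, 1), (0, 2), (0, 3), (0, 4), (0, 5), (0, 6), (0, 7), (0, 8), (0, 9),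
      (0, 10), (0, 11), (1, 2), (1, 3), (1, 4), (1, 5), (1, 6), (1, 7), (1, 8), (1, 9), (1, 10),
      (1, 11), (2, 3), (2, 4), (2, 5), (2, 6), (2, 7), (2, 8), (2, 9), (2, 10), (2, 11), (3, 4),
      (3, 5), (3, 6), (3, 7), (3, 8), (3, 9), (3, 10), (3, 11), (4, 5), (4, 6), (4, 7), (4, 8),
      (4, 9), (4, 10), (4, 11), (5, 6), (5, 7), (5, 8), (5, 9), (5, 10), (5, 11), (6, 7), (6, 8),
      (6, 9), (6, 10), (6, 11), (7, 8), (7, 9), (7, 10), (7, 11), (8, 9), (8, 10), (8, 11), (9, 10),
      (9, 11), (10, 11)] : List (ℕ × ℕ))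

theorem perm_cox : ∀ p ∈ pairsI,
    (perm p.1 * perm p.2) ^ (if adjI p.1 p.2 then 3 else 2) = 1 := by
  intro p hp
  have h := pw_eq_of_agree (cox_all p hp)
  obtain ⟨a, b⟩ := p
  simp only at h ⊢
  have ha := perm_mul_self a
  have hb := perm_mul_self b
  unfold coxL coxR at h
  by_cases hadj : adjI a b = true
  · simp only [hadj, if_true, pw_cons, pw_nil, mul_one] at h
    rw [if_pos hadj, show (perm a * perm b) ^ 3 =
      perm a * (perm b * perm a) * (perm b * (perm a * perm b)) by simp [pow_succ, mul_assoc],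
      ← h, show perm a * (perm b * perm a) * (perm a * (perm b * perm a)) =
        perm a * perm b * (perm a * perm a) * perm b * perm a by simp [mul_assoc],
      ha, mul_one, mul_assoc (perm a), hb, mul_one, ha]
  · simp only [hadj, if_false, pw_cons, pw_nil, mul_one, Bool.false_eq_true] at h
    rw [if_neg hadj, sq]
    nth_rw 2 [h]
    rw [mul_assoc, ← mul_assoc (perm b), hb, one_mul, ha]

theorem coxLabel_eq (x y : Cfsg.Spor.Fi24.Gen) : Cfsg.Spor.coxLabel Cfsg.Spor.Fi24.edges x y =
    if idx x = idx y then 1 else if adjI (idx x) (idx y) then 3 else 2 := by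
  cases x <;> cases y <;> decide

theorem perm_rel (r : FreeGroup Cfsg.Spor.Fi24.Gen)
    (hr : r ∈ Cfsg.Spor.coxRelators Cfsg.Spor.Fi24.edges ∪ {r | r ∈ Cfsg.Spor.Fi24.extra}) :
    FreeGroup.lift (fun x => perm (idx x)) r = 1 := by
  rcases hr with ⟨x, _, y, _, rfl⟩ | hr
  · simp only [map_pow, map_mul, FreeGroup.lift_apply_of, coxLabel_eq]
    by_cases hxy : idx x = idx y
    · rw [if_pos hxy, hxy, pow_one, perm_mul_self]
    · rw [if_neg hxy]
      have ex : ∀ a < 12, ∀ b < 12, a < b → (a, b) ∈ pairsI := fun a ha b hb hab =>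
        List.contains_iff_mem.1 ((by decide : ∀ a : Fin 12, ∀ b : Fin 12, a.val < b.val →
          pairsI.contains (a.val, b.val) = true) ⟨a, ha⟩ ⟨b, hb⟩ hab)
      rcases lt_or_gt_of_ne hxy with h | h
      · exact perm_cox _ (ex _ (idx_lt x) _ (idx_lt y) h)
      · have h' := perm_cox _ (ex _ (idx_lt y) _ (idx_lt x) h)
        have hs : adjI (idx y) (idx x) = adjI (idx x) (idx y) := Bool.or_comm _ _
        simp only [hs] at h'
        rw [← inv_eq_one, ← inv_pow, mul_inv_rev, inv_eq_of_mul_eq_one_right (perm_mul_self _),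
          inv_eq_of_mul_eq_one_right (perm_mul_self _)]
        exact h'
  · simp only [Cfsg.Spor.Fi24.extra, Set.mem_ofPred_eq, List.mem_cons, List.not_mem_nil,
      or_false] at hr
    rcases hr with rfl | rfl
    · have h := pw_eq_of_agree e7_all
      rw [map_mul, map_inv, mul_inv_eq_one]
      refine (?_ : _ = pw perm [0]).trans (h.trans ?_)
      · simp [pw, idx]
      · rw [show ([2, 3, 4, 5, 6, 7, 10, 2, 3, 4, 5, 6, 7, 10, 2, 3, 4, 5, 6, 7, 10, 2, 3, 4, 5, 6,
            7, 10, 2, 3, 4, 5, 6, 7, 10, 2, 3, 4, 5, 6, 7, 10, 2, 3, 4, 5, 6, 7, 10, 2, 3, 4, 5, 6,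
            7, 10, 2, 3, 4, 5, 6, 7, 10] : List ℕ) =
          (List.replicate 9 [2, 3, 4, 5, 6, 7, 10]).flatten from rfl, pw_replicate]
        simp [pw, idx, mul_assoc]
    · have h := pw_eq_of_agree spider_all
      rw [show pw perm [] = 1 from rfl] at h
      refine Eq.trans ?_ h
      rw [show ([5, 4, 3, 2, 1, 0, 5, 6, 7, 8, 9, 5, 10, 11, 5, 4, 3, 2, 1, 0, 5, 6, 7, 8, 9, 5, 10,
          11, 5, 4, 3, 2, 1, 0, 5, 6, 7, 8, 9, 5, 10, 11, 5, 4, 3, 2, 1, 0, 5, 6, 7, 8, 9, 5, 10,
          11, 5, 4, 3, 2, 1, 0, 5, 6, 7, 8, 9, 5, 10, 11, 5, 4, 3, 2, 1, 0, 5, 6, 7, 8, 9, 5, 10,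
          11, 5, 4, 3, 2, 1, 0, 5, 6, 7, 8, 9, 5, 10, 11, 5, 4, 3, 2, 1, 0, 5, 6, 7, 8, 9, 5, 10,
          11, 5, 4, 3, 2, 1, 0, 5, 6, 7, 8, 9, 5, 10, 11, 5, 4, 3, 2, 1, 0, 5, 6, 7, 8, 9, 5, 10,
          11, 5, 4, 3, 2, 1, 0, 5, 6, 7, 8, 9, 5, 10, 11, 5, 4, 3, 2, 1, 0, 5, 6, 7, 8, 9, 5, 10,
          11, 5, 4, 3, 2, 1, 0, 5, 6, 7, 8, 9, 5, 10, 11, 5, 4, 3, 2, 1, 0, 5, 6, 7, 8, 9, 5, 10,
          11, 5, 4, 3, 2, 1, 0, 5, 6, 7, 8, 9, 5, 10, 11, 5, 4, 3, 2, 1, 0, 5, 6, 7, 8, 9, 5, 10,
          11, 5, 4, 3, 2, 1, 0, 5, 6, 7, 8, 9, 5, 10, 11] : List ℕ) =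
          (List.replicate 17 [5, 4, 3, 2, 1, 0, 5, 6, 7, 8, 9, 5, 10, 11]).flatten from rfl,
        pw_replicate]
      simp [pw, idx, mul_assoc]

/-- the action on lanes -/
noncomputable def phi : Cfsg.Spor.Fi24 →* Equiv.Perm (Fin sys.size) :=
  PresentedGroup.toGroup perm_rel

theorem phi_gn {g : ℕ} (hg : g < 12) : phi (gn g) = perm g := by
  have h : ∀ g < 12, idx (genOf g) = g := by decide
  rw [phi, gn, PresentedGroup.toGroup.of, h g hg]

end Cfsg.Agent.Lib.CosetTable.Lanes.Fi24
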