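import Mathlib
import Cfsg.Prelude.Def_SporadicB
import Cfsg.Agent.Lib.CosetTable.Lanes.Fi24.Class

/-!
The Fischer group Fi24 as a 3-transposition group, given a subgroup isomorphic to He.
-/

namespace Cfsg.Agent.Lib.CosetTable.Lanes.Fi24

theorem derived_isFi24' : Cfsg.IsFi24' (commutator Cfsg.Spor.Fi24) :=
  ⟨derived_simple, card_derived⟩

theorem realization (he : ∃ K : Subgroup (commutator Cfsg.Spor.Fi24), Cfsg.IsHe K) :
    ∃ (G : Type) (_ : Group G) (_ : Finite G), Nat.card G = 2 * 1255205709190661721292800 ∧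
      ∃ D : Set G, Cfsg.IsThreeTranspositionClass D ∧ Nat.card D = 306936 ∧
        (∀ d ∈ D, Nat.card (Subgroup.centralizer ({d} : Set G)) = 2 * 4089470473293004800 ∧
          ∃ K : Subgroup G, K ≤ Subgroup.centralizer ({d} : Set G) ∧ Cfsg.IsFi23 K) ∧
        ∃ H : Subgroup G, H.index = 2 ∧ Cfsg.IsFi24' H ∧ (∃ K : Subgroup H, Cfsg.IsFi23 K) ∧
          (∃ K : Subgroup H, Cfsg.IsHe K) :=
  ⟨Cfsg.Spor.Fi24, inferInstance, finite_fi24, card_fi24, transp, three_transp_class, card_transp,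
    fun _ hd => centralizer_transp hd, commutator Cfsg.Spor.Fi24, derived_index, derived_isFi24',
    derived_has_fi23, he⟩

end Cfsg.Agent.Lib.CosetTable.Lanes.Fi24
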